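import Mathlib

/-! # Surjectivity of weighted Gaussian maps on projective space -/

set_option autoImplicit false

universe u

open MvPolynomial

namespace WGaussLib

theorem exists_le_degree {σ : Type*} (γ : σ →₀ ℕ) : ∀ m : ℕ, m ≤ γ.degree → ∃ α, α ≤ γ ∧ α.degree = m := by
  classical
  intro m
  induction m with
  | zero => exact fun _ => ⟨0, zero_le, map_zero _⟩
  | succ m ih =>
    intro hm
    obtain ⟨α, hle, hα⟩ := ih (by omega)
    have hne : γ - α ≠ 0 := fun h0 => by
      have : γ = α := le_antisymm (fun i => by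
        have := DFunLike.congr_fun h0 i
        simp only [Finsupp.tsub_apply, Finsupp.zero_apply] at this
        omega) hle
      rw [this, hα] at hm
      omega
    obtain ⟨i, hi⟩ := Finsupp.ne_iff.1 hne
    refine ⟨α + Finsupp.single i 1, fun j => ?_, by rw [map_add, hα, Finsupp.degree_single]⟩
    have := hle j
    simp only [Finsupp.tsub_apply, Finsupp.zero_apply] at hi
    by_cases hj : i = j
    · subst hj; simp only [Finsupp.add_apply, Finsupp.single_eq_same]; omega
    · simp [hj, this]

variable {k : Type u} [Field k] {n : ℕ}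

/-- The value of the Gaussian map. -/
noncomputable def gauss (a b : ℕ) (σ τ : MvPolynomial (Fin n) k) : Fin n → MvPolynomial (Fin n) k :=
  fun i => (b : k) • (τ * pderiv i σ) - (a : k) • (σ * pderiv i τ)

/-- The Koszul relation. -/
noncomputable def kos (A : MvPolynomial (Fin n) k) (i j : Fin n) : Fin n → MvPolynomial (Fin n) k :=
  Pi.single j (A * X i) - Pi.single i (A * X j)

theorem gauss_sub (a b : ℕ) (s t : MvPolynomial (Fin n) k) (i j : Fin n) :
    gauss a b (s * X j) (t * X i) - gauss a b (s * X i) (t * X j) = ((a : k) + b) • kos (s * t) i j := by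
  funext l
  classical
  simp only [gauss, kos, Pi.sub_apply, Pi.smul_apply, Pi.single_apply, pderiv_mul, pderiv_X, MvPolynomial.smul_eq_C_mul,
    map_add, map_natCast]
  by_cases hi : l = i <;> by_cases hj : l = j
  · subst hi; subst hj; simp
  · subst hi
    simp [hj, Ne.symm hj]
    ring
  · subst hj
    simp [hi, Ne.symm hi]
    ring
  · simp [hi, hj, Ne.symm hi, Ne.symm hj]
    try ring

theorem mem_span [CharZero k] (e a b : ℕ) (he : 0 < e) (ha : 0 < a) (hb : 0 < b)
    (f : Fin n → MvPolynomial (Fin n) k) (hf : ∀ i, (f i).IsHomogeneous ((a + b) * e - 1))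
    (hEuler : ∑ i, X i * f i = 0) :
    f ∈ Submodule.span k {g : Fin n → MvPolynomial (Fin n) k |
      ∃ σ τ : MvPolynomial (Fin n) k, σ.IsHomogeneous (a * e) ∧ τ.IsHomogeneous (b * e) ∧ g = gauss a b σ τ} := by
  classical
  set M := Submodule.span k {g : Fin n → MvPolynomial (Fin n) k |
      ∃ σ τ : MvPolynomial (Fin n) k, σ.IsHomogeneous (a * e) ∧ τ.IsHomogeneous (b * e) ∧ g = gauss a b σ τ}
  set D := (a + b) * e - 1 with hDdef
  have hae : 1 ≤ a * e := Nat.mul_pos ha he
  have hbe : 1 ≤ b * e := Nat.mul_pos hb he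
  have hN : (a + b) * e = a * e + b * e := add_mul a b e
  have hab : ((a : k) + b) ≠ 0 := by exact_mod_cast (show a + b ≠ 0 by omega)
  have hmem : ∀ (A : MvPolynomial (Fin n) k), A.IsHomogeneous (D - 1) → ∀ i j, kos A i j ∈ M := by
    intro A hA i j
    have hmon : ∀ d ∈ A.support, kos (monomial d (A.coeff d)) i j ∈ M := fun d hd => by
      have hdeg : d.degree = D - 1 := (hA.degree_eq_sum_deg_support hd).symm
      obtain ⟨α, hle, hα⟩ := exists_le_degree d (a * e - 1) (by omega)
      have hd2 : α + (d - α) = d := add_tsub_cancel_of_le hle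
      have hβ : (d - α).degree = b * e - 1 := by
        have := congrArg Finsupp.degree hd2
        rw [map_add] at this
        omega
      have hh : ∀ (l : Fin n) (γ : Fin n →₀ ℕ) (c : k) (m : ℕ), γ.degree + 1 = m →
          (monomial γ c * X l).IsHomogeneous m := fun l γ c m h =>
        h ▸ (isHomogeneous_monomial c rfl).mul (isHomogeneous_X k l)
      have h1 := Submodule.sub_mem M
        (Submodule.subset_span ⟨_, _, hh j α (A.coeff d) (a * e) (by omega), hh i (d - α) 1 (b * e) (by omega), rfl⟩)
        (Submodule.subset_span ⟨_, _, hh i α (A.coeff d) (a * e) (by omega), hh j (d - α) 1 (b * e) (by omega), rfl⟩)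
      rw [gauss_sub, monomial_mul, hd2, mul_one] at h1
      have := Submodule.smul_mem M ((a : k) + b)⁻¹ h1
      rwa [smul_smul, inv_mul_cancel₀ hab, one_smul] at this
    have hlin : kos A i j = ∑ d ∈ A.support, kos (monomial d (A.coeff d)) i j := by
      conv_lhs => rw [A.as_sum]
      funext l
      simp only [kos, Finset.sum_apply, Pi.sub_apply, Pi.single_apply, Finset.sum_mul, Finset.sum_sub_distrib]
      congr 1 <;> split_ifs <;> simp
    rw [hlin]
    exact Submodule.sum_mem _ hmon
  let A : Fin n → Fin n → MvPolynomial (Fin n) k := fun i j => pderiv i (f j) - pderiv j (f i)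
  have hA : ∀ i j, (A i j).IsHomogeneous (D - 1) := fun i j => ((hf j).pderiv).sub ((hf i).pderiv)
  have key : ∀ j, ((D : k) + 1) • f j = ∑ i, A i j * X i := fun j => by
    have h1 := (hf j).sum_X_mul_pderiv
    have h2 : f j + ∑ i, X i * pderiv j (f i) = 0 := by
      have := congrArg (pderiv j) hEuler
      simp only [map_sum, pderiv_mul, map_zero, pderiv_X, Finset.sum_add_distrib] at this
      simpa [Pi.single_apply, ite_mul] using this
    simp only [A, mul_comm _ (X _), mul_sub, Finset.sum_sub_distrib]
    rw [h1, eq_neg_of_add_eq_zero_right h2, sub_neg_eq_add, add_smul, one_smul, Nat.cast_smul_eq_nsmul]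
  have hsum : (2 * ((D : k) + 1)) • f = ∑ i, ∑ j, kos (A i j) i j := by
    funext l
    simp only [Pi.smul_apply, Finset.sum_apply, kos, Pi.sub_apply, Pi.single_apply, Finset.sum_sub_distrib]
    have e2 : ∀ i j, A i j = - A j i := fun i j => (neg_sub _ _).symm
    rw [mul_smul, key l, two_smul]
    rw [show (∑ i, ∑ j, if l = j then A i j * X i else 0) = ∑ i, A i l * X i from
      Finset.sum_congr rfl fun i _ => by simp]
    rw [show (∑ i, ∑ j, if l = i then A i j * X j else 0) = ∑ j, A l j * X j from by
      rw [Finset.sum_comm]; exact Finset.sum_congr rfl fun j _ => by simp]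
    rw [sub_eq_add_neg, ← Finset.sum_neg_distrib]
    congr 1
    exact Finset.sum_congr rfl fun i _ => by rw [e2 l i, neg_mul, neg_neg]
  have hne : (2 * ((D : k) + 1)) ≠ 0 := mul_ne_zero two_ne_zero (by exact_mod_cast Nat.succ_ne_zero D)
  have := Submodule.smul_mem M (2 * ((D : k) + 1))⁻¹
    (hsum ▸ Submodule.sum_mem M fun i _ => Submodule.sum_mem M fun j _ => hmem _ (hA i j) i j)
  rwa [smul_smul, inv_mul_cancel₀ hne, one_smul] at this

end WGaussLib
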